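import Groth.Agent.StalkFieldLib.Alg
import Groth.Agent.S9134
import Groth.Agent.S0556

/-! Tensor product of discrete valuation rings with a common uniformizer. -/

set_option autoImplicit false
set_option linter.style.haveILetI false

universe u

open TensorProduct IsLocalRing

noncomputable section

namespace Groth.Agent.StalkFieldLib

section Basics

variable {R B : Type u} [CommRing R] [IsDomain R] [IsDiscreteValuationRing R] [CommRing B] [IsDomain B]
  [IsDiscreteValuationRing B] [Algebra R B]

theorem exists_uniformizer (hm : maximalIdeal B = Ideal.map (algebraMap R B) (maximalIdeal R)) :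
    ∃ π : R, Irreducible π ∧ Irreducible (algebraMap R B π) := by
  obtain ⟨π, hπ⟩ := IsDiscreteValuationRing.exists_irreducible R
  refine ⟨π, hπ, ?_⟩
  rw [IsDiscreteValuationRing.irreducible_iff_uniformizer, hm,
    (IsDiscreteValuationRing.irreducible_iff_uniformizer π).1 hπ, Ideal.map_span, Set.image_singleton]

theorem injective_algebraMap (hm : maximalIdeal B = Ideal.map (algebraMap R B) (maximalIdeal R)) :
    Function.Injective (algebraMap R B) := by
  obtain ⟨π, hπ, hπB⟩ := exists_uniformizer hm
  refine (injective_iff_map_eq_zero _).2 fun r hr => ?_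
  by_contra hr0
  obtain ⟨n, u, hu⟩ := IsDiscreteValuationRing.associated_pow_irreducible hr0 hπ
  have h := congrArg (algebraMap R B) hu
  rw [map_mul, hr, zero_mul, map_pow] at h
  exact pow_ne_zero n hπB.ne_zero h.symm

theorem exists_dvd (hm : maximalIdeal B = Ideal.map (algebraMap R B) (maximalIdeal R)) (b : B) (hb : b ≠ 0) :
    ∃ r : R, r ≠ 0 ∧ b ∣ algebraMap R B r := by
  obtain ⟨π, hπ, hπB⟩ := exists_uniformizer hm
  obtain ⟨n, hn⟩ := IsDiscreteValuationRing.associated_pow_irreducible hb hπB
  exact ⟨π ^ n, pow_ne_zero n hπ.ne_zero, by rw [map_pow]; exact hn.dvd⟩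

theorem flat (hm : maximalIdeal B = Ideal.map (algebraMap R B) (maximalIdeal R)) : Module.Flat R B := by
  refine IsDedekindDomain.flat_iff_torsion_eq_bot.mpr (Submodule.isTorsionFree_iff_torsion_eq_bot.mp ?_)
  refine ⟨fun r hr x y hxy => ?_⟩
  simp only [Algebra.smul_def] at hxy
  exact mul_left_cancel₀ ((map_ne_zero_iff _ (injective_algebraMap hm)).2 hr.ne_zero) hxy

theorem nontrivial_tensor (hm : maximalIdeal B = Ideal.map (algebraMap R B) (maximalIdeal R))
    (F : Type u) [CommRing F] [Nontrivial F] [Algebra R F] (hF : Function.Injective (algebraMap R F)) :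
    Nontrivial (B ⊗[R] F) := by
  haveI := flat hm
  have h := Module.Flat.lTensor_preserves_injective_linearMap (M := B) (Algebra.linearMap R F) hF
  exact (h.comp (TensorProduct.rid R B).symm.injective).nontrivial

end Basics

theorem isField_tensor_dvr {R B F : Type u} [CommRing R] [IsDomain R] [IsDiscreteValuationRing R] [CommRing B]
    [IsDomain B] [IsDiscreteValuationRing B] [Algebra R B] [Field F] [Algebra R F]
    (hm : maximalIdeal B = Ideal.map (algebraMap R B) (maximalIdeal R))
    (hF : Function.Injective (algebraMap R F)) [Algebra.IsAlgebraic R F] [IsDomain (B ⊗[R] F)] :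
    IsField (B ⊗[R] F) :=
  isField_tensor (exists_dvd hm) hF

variable {R R' : Type u} [CommRing R] [IsDomain R] [IsDiscreteValuationRing R] [CommRing R'] [IsDomain R']
  [IsDiscreteValuationRing R'] [Algebra R R'] [IsLocalHom (algebraMap R R')]

/-- The residue extension of a generically finite extension of discrete valuation rings is finite. -/
theorem finite_residue (hinj : Function.Injective (algebraMap R R')) (K' : Type u) [Field K'] [Algebra R' K']
    [IsFractionRing R' K'] [Algebra R K'] [IsScalarTower R R' K'] [Algebra (FractionRing R) K']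
    [IsScalarTower R (FractionRing R) K'] [FiniteDimensional (FractionRing R) K'] :
    Module.Finite R (ResidueField R') := by
  obtain ⟨π, hπ⟩ := IsDiscreteValuationRing.exists_irreducible R
  let e := (Module.finBasis (FractionRing R) K').equivFun
  let ι : R' →ₗ[R] (Fin (Module.finrank (FractionRing R) K') → FractionRing R) :=
    (e.toLinearMap.restrictScalars R).comp ((Algebra.linearMap R' K').restrictScalars R)
  have hι : Function.Injective ι := e.injective.comp (IsFractionRing.injective R' K')
  let M := LinearMap.range ι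
  let E : R' ≃ₗ[R] M := LinearEquiv.ofInjective ι hι
  have h := Groth.Agent.S9134.result R (IsDiscreteValuationRing.ringKrullDim_eq_one R) (FractionRing R) _ M π hπ.ne_zero
  rw [Module.length_ne_top_iff, isFiniteLength_iff_isNoetherian_isArtinian] at h
  haveI := h.1
  let g : M →ₗ[R] ResidueField R' := ((Algebra.linearMap R' (ResidueField R')).restrictScalars R).comp E.symm.toLinearMap
  have hle : (Ideal.span ({π} : Set R) • (⊤ : Submodule R M)) ≤ LinearMap.ker g := by
    rw [Submodule.smul_le]
    intro r hr m _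
    rw [LinearMap.mem_ker, map_smul, Algebra.smul_def, IsScalarTower.algebraMap_apply R R' (ResidueField R'),
      IsLocalRing.ResidueField.algebraMap_eq, (residue_eq_zero_iff _).2 (map_nonunit (algebraMap R R') r (by
        rw [mem_maximalIdeal, mem_nonunits_iff]
        obtain ⟨s, rfl⟩ := Ideal.mem_span_singleton'.1 hr
        exact fun hu => hπ.not_isUnit (isUnit_of_mul_isUnit_right hu))), zero_mul]
  refine Module.Finite.of_surjective ((Ideal.span ({π} : Set R) • (⊤ : Submodule R M)).liftQ g hle) fun z => ?_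
  obtain ⟨a, rfl⟩ := residue_surjective z
  exact ⟨Submodule.Quotient.mk (E a), by simp [g]⟩

theorem exists_residue_rep [IsAlgClosed (ResidueField R)] [Module.Finite R (ResidueField R')] (y : R') :
    ∃ r : R, y - algebraMap R R' r ∈ maximalIdeal R' := by
  haveI : Module.Finite (ResidueField R) (ResidueField R') := Module.Finite.of_restrictScalars_finite R _ _
  haveI : Algebra.IsIntegral (ResidueField R) (ResidueField R') := Algebra.IsIntegral.of_finite _ _
  obtain ⟨c, hc⟩ := (IsAlgClosed.algebraMap_bijective_of_isIntegral (k := ResidueField R) (K := ResidueField R')).2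
    (residue R' y)
  obtain ⟨r, rfl⟩ := residue_surjective c
  refine ⟨r, ?_⟩
  rw [← residue_eq_zero_iff, map_sub, ← hc]
  exact sub_eq_zero.2 rfl

variable {B : Type u} [CommRing B] [IsDomain B] [IsDiscreteValuationRing B] [Algebra R B]

theorem isDVR_tensor [IsAlgClosed (ResidueField R)] (hm : maximalIdeal B = Ideal.map (algebraMap R B) (maximalIdeal R))
    (hinj : Function.Injective (algebraMap R R')) (K' : Type u) [Field K'] [Algebra R' K'] [IsFractionRing R' K']
    [Algebra R K'] [IsScalarTower R R' K'] [Algebra (FractionRing R) K'] [IsScalarTower R (FractionRing R) K']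
    [FiniteDimensional (FractionRing R) K'] [IsDomain (B ⊗[R] K')] :
    ∃ _ : IsDomain (B ⊗[R] R'), IsDiscreteValuationRing (B ⊗[R] R') := by
  haveI := flat hm
  haveI := finite_residue hinj K'
  haveI : Algebra.IsAlgebraic R K' :=
    (IsFractionRing.comap_isAlgebraic_iff (A := R) (K := FractionRing R) (C := K')).2 inferInstance
  have hRK : Function.Injective (algebraMap R K') := by
    rw [IsScalarTower.algebraMap_eq R (FractionRing R) K']
    exact (algebraMap (FractionRing R) K').injective.comp (IsFractionRing.injective R (FractionRing R))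
  let Θ : B ⊗[R] R' →ₐ[R] B ⊗[R] K' := Algebra.TensorProduct.map (AlgHom.id R B) (IsScalarTower.toAlgHom R R' K')
  have hΘ : Function.Injective Θ :=
    Module.Flat.lTensor_preserves_injective_linearMap (M := B) (IsScalarTower.toAlgHom R R' K').toLinearMap
      (IsFractionRing.injective R' K')
  haveI : Nontrivial (B ⊗[R] R') := nontrivial_tensor hm R' hinj
  haveI hdom : IsDomain (B ⊗[R] R') := hΘ.isDomain Θ.toRingHom
  refine ⟨hdom, ?_⟩
  -- the generic fibre
  letI : Field (B ⊗[R] K') := (isField_tensor_dvr hm hRK).toField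
  have hfrac : ∀ z : B ⊗[R] K', ∃ r : R, r ≠ 0 ∧ ∃ c, Θ c = r • z := by
    intro z
    induction z using TensorProduct.induction_on with
    | zero => exact ⟨1, one_ne_zero, 0, by simp⟩
    | add x y hx hy =>
      obtain ⟨r, hr, c, hc⟩ := hx
      obtain ⟨r', hr', c', hc'⟩ := hy
      exact ⟨r * r', mul_ne_zero hr hr', r' • c + r • c', by rw [map_add, map_smul, map_smul, hc, hc', smul_smul, smul_smul, smul_add, mul_comm r' r]⟩
    | tmul b x =>
      obtain ⟨p, hp0, hp⟩ := Algebra.IsAlgebraic.isAlgebraic (R := R) x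
      obtain ⟨a, s, hs, rfl⟩ := IsFractionRing.div_surjective (A := R') x
      have hs0 : s ≠ 0 := nonZeroDivisors.ne_zero hs
      haveI : Algebra.IsAlgebraic R R' := ⟨fun w =>
        (isAlgebraic_algebraMap_iff (IsFractionRing.injective R' K')).1 (Algebra.IsAlgebraic.isAlgebraic _)⟩
      obtain ⟨r, hr, t, ht⟩ : ∃ r : R, r ≠ 0 ∧ ∃ t : R', s * t = algebraMap R R' r := by
        obtain ⟨r, hr, hr'⟩ := (Algebra.IsAlgebraic.isAlgebraic (R := R) s).exists_nonzero_dvd
          (mem_nonZeroDivisors_of_ne_zero hs0)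
        exact ⟨r, hr, hr'.choose, hr'.choose_spec.symm⟩
      refine ⟨r, hr, b ⊗ₜ (a * t), ?_⟩
      show b ⊗ₜ[R] algebraMap R' K' (a * t) = r • b ⊗ₜ[R] (algebraMap R' K' a / algebraMap R' K' s)
      rw [← TensorProduct.tmul_smul, Algebra.smul_def, IsScalarTower.algebraMap_apply R R' K', ← ht, map_mul, map_mul]
      have : algebraMap R' K' s ≠ 0 := (map_ne_zero_iff _ (IsFractionRing.injective R' K')).2 hs0
      congr 1
      field_simp
  -- the residue map
  obtain ⟨π', hπ'⟩ := IsDiscreteValuationRing.exists_irreducible R'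
  have hmR' : maximalIdeal R' = Ideal.span {π'} := (IsDiscreteValuationRing.irreducible_iff_uniformizer π').1 hπ'
  let j : B →+* B ⊗[R] R' := Algebra.TensorProduct.includeLeftRingHom
  let i : R' →+* B ⊗[R] R' := (Algebra.TensorProduct.includeRight : R' →ₐ[R] B ⊗[R] R').toRingHom
  let t := i π'
  have hji : ∀ r : R, j (algebraMap R B r) = i (algebraMap R R' r) := fun r => Algebra.TensorProduct.tmul_one_eq_one_tmul r
  have hsplit : ∀ c, ∃ b : B, c - j b ∈ Ideal.span {t} := by
    intro c
    induction c using TensorProduct.induction_on with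
    | zero => exact ⟨0, by simp⟩
    | add x y hx hy =>
      obtain ⟨b, hb⟩ := hx; obtain ⟨b', hb'⟩ := hy
      exact ⟨b + b', by rw [map_add, add_sub_add_comm]; exact add_mem hb hb'⟩
    | tmul b y =>
      obtain ⟨r, hr⟩ := exists_residue_rep (R := R) y
      rw [hmR', Ideal.mem_span_singleton'] at hr
      obtain ⟨z, hz⟩ := hr
      refine ⟨b * algebraMap R B r, Ideal.mem_span_singleton'.2 ⟨j b * i z, ?_⟩⟩
      rw [mul_assoc, show i z * t = i (z * π') from (map_mul i z π').symm, hz, map_mul, hji, map_sub, mul_sub]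
      congr 1
      simp [i, j]
  have hπt : ∀ r ∈ maximalIdeal R, i (algebraMap R R' r) ∈ Ideal.span {t} := by
    intro r hr
    have h1 : algebraMap R R' r ∈ maximalIdeal R' := map_nonunit (algebraMap R R') r hr
    rw [hmR', Ideal.mem_span_singleton'] at h1
    obtain ⟨z, hz⟩ := h1
    exact Ideal.mem_span_singleton'.2 ⟨i z, by rw [← map_mul, hz]⟩
  let T := Ideal.span ({t} : Set (B ⊗[R] R'))
  have htop : T ≠ ⊤ := by
    intro h
    let β : R →ₐ[R] ResidueField B := Algebra.ofId R _
    haveI : Module.Finite (ResidueField R) (ResidueField R') := Module.Finite.of_restrictScalars_finite R _ _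
    haveI : Algebra.IsIntegral (ResidueField R) (ResidueField R') := Algebra.IsIntegral.of_finite _ _
    let ε : ResidueField R ≃ₐ[ResidueField R] ResidueField R' :=
      AlgEquiv.ofBijective (Algebra.ofId _ _)
        (IsAlgClosed.algebraMap_bijective_of_isIntegral (k := ResidueField R) (K := ResidueField R'))
    have hker : maximalIdeal R ≤ RingHom.ker (algebraMap R (ResidueField B)) := fun r hr => by
      rw [RingHom.mem_ker, IsScalarTower.algebraMap_apply R B (ResidueField B), IsLocalRing.ResidueField.algebraMap_eq,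
        residue_eq_zero_iff, hm]
      exact Ideal.mem_map_of_mem _ hr
    let γ : ResidueField R →ₐ[R] ResidueField B := Ideal.Quotient.liftₐ (maximalIdeal R) β hker
    let h' : R' →ₐ[R] ResidueField B :=
      γ.comp ((ε.symm.toAlgHom.restrictScalars R).comp (IsScalarTower.toAlgHom R R' (ResidueField R')))
    let g : B ⊗[R] R' →ₐ[R] ResidueField B := Algebra.TensorProduct.productMap (IsScalarTower.toAlgHom R B _) h'
    have hgt : g t = 0 := by
      show g ((1 : B) ⊗ₜ π') = 0
      rw [Algebra.TensorProduct.productMap_apply_tmul, map_one, one_mul]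
      show γ (ε.symm (algebraMap R' (ResidueField R') π')) = 0
      rw [IsLocalRing.ResidueField.algebraMap_eq, (residue_eq_zero_iff _).2 (hmR' ▸ Ideal.mem_span_singleton_self π'),
        map_zero, map_zero]
    have h1 : (1 : B ⊗[R] R') ∈ T := h ▸ Submodule.mem_top
    obtain ⟨z, hz⟩ := Ideal.mem_span_singleton'.1 h1
    have h2 := congrArg g hz
    rw [map_mul, hgt, mul_zero, map_one] at h2
    exact zero_ne_one h2
  haveI hT : T.IsMaximal := by
    refine Ideal.Quotient.maximal_of_isField T ?_
    haveI : Nontrivial ((B ⊗[R] R') ⧸ T) := Ideal.Quotient.nontrivial_iff.2 htop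
    refine ⟨⟨0, 1, zero_ne_one⟩, mul_comm, fun {x} hx => ?_⟩
    obtain ⟨c, rfl⟩ := Ideal.Quotient.mk_surjective x
    obtain ⟨b, hb⟩ := hsplit c
    have e : Ideal.Quotient.mk T c = Ideal.Quotient.mk T (j b) := Ideal.Quotient.eq.2 hb
    have hbu : IsUnit b := by
      by_contra hbu
      apply hx
      have hbm : b ∈ maximalIdeal B := hbu
      rw [hm] at hbm
      rw [e, Ideal.Quotient.eq_zero_iff_mem]
      refine (Ideal.map_le_iff_le_comap (f := algebraMap R B) (K := T.comap j)).2 (fun r hr => ?_) hbm
      show j (algebraMap R B r) ∈ T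
      rw [hji]
      exact hπt r hr
    obtain ⟨v, hv⟩ := hbu.exists_right_inv
    exact ⟨Ideal.Quotient.mk T (j v), by rw [e, ← map_mul, ← map_mul, hv, map_one, map_one]⟩
  have ht0 : t ≠ 0 := by
    intro ht
    have h1 : Θ t = 0 := by rw [ht, map_zero]
    have h2 : (1 : B) ⊗ₜ[R] algebraMap R' K' π' = 0 := h1
    have h3 : IsUnit ((Algebra.TensorProduct.includeRight : K' →ₐ[R] B ⊗[R] K') (algebraMap R' K' π')) :=
      (isUnit_iff_ne_zero.2 ((map_ne_zero_iff _ (IsFractionRing.injective R' K')).2 hπ'.ne_zero)).map _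
    rw [show (Algebra.TensorProduct.includeRight : K' →ₐ[R] B ⊗[R] K') (algebraMap R' K' π') = 0 from h2] at h3
    exact not_isUnit_zero h3
  have hnf : ¬ IsField (B ⊗[R] R') := fun hF => by
    obtain ⟨v, hv⟩ := hF.mul_inv_cancel ht0
    exact htop (Ideal.eq_top_of_isUnit_mem _ (Ideal.mem_span_singleton_self t) (IsUnit.of_mul_eq_one v hv))
  haveI : IsLocalRing (B ⊗[R] R') := IsLocalRing.of_unique_max_ideal ⟨T, hT, fun M hM => by
    have hM0 : M ≠ ⊥ := Ring.ne_bot_of_isMaximal_of_not_isField hM hnf
    obtain ⟨c, hcM, hc0⟩ := Submodule.exists_mem_ne_zero_of_ne_bot hM0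
    obtain ⟨r, hr, d, hd⟩ := hfrac (Θ c)⁻¹
    have hrM : i (algebraMap R R' r) ∈ M := by
      have : c * d = i (algebraMap R R' r) := hΘ (by
        rw [map_mul, hd, mul_smul_comm, mul_inv_cancel₀ ((map_ne_zero_iff _ hΘ).2 hc0)]
        show r • (1 : B ⊗[R] K') = (1 : B) ⊗ₜ[R] algebraMap R' K' (algebraMap R R' r)
        rw [← IsScalarTower.algebraMap_apply, Algebra.algebraMap_eq_smul_one, TensorProduct.tmul_smul,
          Algebra.TensorProduct.one_def])
      exact this ▸ M.mul_mem_right d hcM
    have hs0 : algebraMap R R' r ≠ 0 := (map_ne_zero_iff _ hinj).2 hr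
    obtain ⟨n, u, hu⟩ := IsDiscreteValuationRing.associated_pow_irreducible hs0 hπ'
    have htn : t ^ n ∈ M := by
      show i π' ^ n ∈ M
      rw [← map_pow, ← hu, map_mul]
      exact M.mul_mem_right _ hrM
    exact (hT.eq_of_le hM.ne_top ((Ideal.span_singleton_le_iff_mem _).2 (hM.isPrime.mem_of_pow_mem n htn))).symm⟩
  -- Krull–Akizuki
  let φ : FractionRing B →+* B ⊗[R] K' := IsFractionRing.lift
    (g := (Algebra.TensorProduct.includeLeftRingHom : B →+* B ⊗[R] K')) (by
      refine (injective_iff_map_eq_zero _).2 fun b hb => ?_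
      by_contra hb0
      obtain ⟨r, hr, c, hc⟩ := exists_dvd hm b hb0
      have h := congrArg (Algebra.TensorProduct.includeLeftRingHom : B →+* B ⊗[R] K') hc
      rw [map_mul, hb, zero_mul] at h
      have h3 : IsUnit ((Algebra.TensorProduct.includeRight : K' →ₐ[R] B ⊗[R] K') (algebraMap R K' r)) :=
        (isUnit_iff_ne_zero.2 ((map_ne_zero_iff _ hRK).2 hr)).map _
      rw [show (Algebra.TensorProduct.includeRight : K' →ₐ[R] B ⊗[R] K') (algebraMap R K' r) = 0 from
        (Algebra.TensorProduct.tmul_one_eq_one_tmul r).symm.trans h] at h3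
      exact not_isUnit_zero h3)
  letI : Algebra (FractionRing B) (B ⊗[R] K') := φ.toAlgebra
  haveI : IsScalarTower B (FractionRing B) (B ⊗[R] K') := .of_algebraMap_eq fun b =>
    (IsFractionRing.lift_algebraMap _ b).symm
  letI : Algebra (B ⊗[R] R') (B ⊗[R] K') := Θ.toRingHom.toAlgebra
  haveI : IsScalarTower B (B ⊗[R] R') (B ⊗[R] K') := .of_algebraMap_eq fun b => by
    show _ = Θ (b ⊗ₜ 1)
    simp [Θ]
  haveI : FiniteDimensional (FractionRing B) (B ⊗[R] K') := by
    classical
    let bs := Module.finBasis (FractionRing R) K'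
    refine ⟨⟨Finset.univ.image fun l => (1 : B) ⊗ₜ[R] bs l, ?_⟩⟩
    rw [eq_top_iff]
    rintro z -
    induction z using TensorProduct.induction_on with
    | zero => exact zero_mem _
    | add x y hx hy => exact add_mem hx hy
    | tmul b x =>
      rw [← bs.sum_repr x, TensorProduct.tmul_sum]
      refine Submodule.sum_mem _ fun l _ => ?_
      obtain ⟨a, s, hs, hq⟩ := IsFractionRing.div_surjective (A := R) (bs.repr x l)
      have hs' : algebraMap R B s ≠ 0 := (map_ne_zero_iff _ (injective_algebraMap hm)).2 (nonZeroDivisors.ne_zero hs)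
      have e : b ⊗ₜ[R] (bs.repr x l • bs l) =
          (algebraMap B (FractionRing B) (b * algebraMap R B a) / algebraMap B (FractionRing B) (algebraMap R B s)) •
            ((1 : B) ⊗ₜ[R] bs l) := by
        let iK : K' →+* B ⊗[R] K' := (Algebra.TensorProduct.includeRight : K' →ₐ[R] B ⊗[R] K').toRingHom
        have hB : ∀ c : B, algebraMap B (B ⊗[R] K') c = c ⊗ₜ[R] (1 : K') := fun c => rfl
        have hA : ∀ r : R, algebraMap B (B ⊗[R] K') (algebraMap R B r) = iK (algebraMap R K' r) :=
          fun r => Algebra.TensorProduct.tmul_one_eq_one_tmul r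
        rw [Algebra.smul_def, Algebra.smul_def, map_div₀, ← IsScalarTower.algebraMap_apply B (FractionRing B),
          ← IsScalarTower.algebraMap_apply B (FractionRing B), map_mul, hA, hA, mul_div_assoc, ← map_div₀ iK, ← hq,
          map_div₀, ← IsScalarTower.algebraMap_apply, ← IsScalarTower.algebraMap_apply, hB]
        show _ = _ * iK (bs l)
        rw [mul_assoc, ← map_mul]
        show _ = b ⊗ₜ[R] (1 : K') * ((1 : B) ⊗ₜ[R] _)
        rw [Algebra.TensorProduct.tmul_mul_tmul, mul_one, one_mul]
      rw [e]
      exact Submodule.smul_mem _ _ (Submodule.subset_span (by simp))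
  haveI : IsNoetherianRing (B ⊗[R] R') :=
    Groth.Agent.S0556.result B (IsDiscreteValuationRing.ringKrullDim_eq_one B) (FractionRing B) (B ⊗[R] K')
      (B ⊗[R] R') hΘ
  have hprin : (maximalIdeal (B ⊗[R] R')).IsPrincipal := by
    rw [← IsLocalRing.eq_maximalIdeal hT]
    exact ⟨⟨t, rfl⟩⟩
  exact ((IsDiscreteValuationRing.TFAE (B ⊗[R] R') hnf).out 0 4).2 hprin

end Groth.Agent.StalkFieldLib
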