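import Mathlib

/-! Tensor products of a localized ring and field extensions of a discrete valuation ring. -/

set_option autoImplicit false
set_option linter.style.haveILetI false

universe u

open TensorProduct

namespace Groth.Agent.StalkFieldLib

theorem isDomain_tensor_of_isLocalization {R C B F : Type u} [CommRing R] [CommRing C] [CommRing B] [CommRing F]
    [Algebra R C] [Algebra R B] [Algebra R F] [Algebra C B] [IsScalarTower R C B] (M : Submonoid C)
    [IsLocalization M B] [IsDomain (C ⊗[R] F)] [Nontrivial (B ⊗[R] F)] : IsDomain (B ⊗[R] F) := by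
  letI : Algebra (C ⊗[R] F) (B ⊗[R] F) :=
    (Algebra.TensorProduct.map (IsScalarTower.toAlgHom R C B) (AlgHom.id R F)).toRingHom.toAlgebra
  haveI : IsScalarTower C (C ⊗[R] F) (B ⊗[R] F) := .of_algebraMap_eq fun c => by
    show _ = Algebra.TensorProduct.map (IsScalarTower.toAlgHom R C B) (AlgHom.id R F) (c ⊗ₜ 1)
    simp [Algebra.TensorProduct.algebraMap_apply]
  haveI := IsLocalization.tensorProduct_tensorProduct R F M B (RingHom.ext fun x => by
    show Algebra.TensorProduct.map (IsScalarTower.toAlgHom R C B) (AlgHom.id R F) (1 ⊗ₜ x) = 1 ⊗ₜ x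
    simp)
  refine IsLocalization.isDomain_of_le_nonZeroDivisors (M := Algebra.algebraMapSubmonoid (C ⊗[R] F) M) _ ?_
  intro z hz
  refine mem_nonZeroDivisors_of_ne_zero fun h => ?_
  have hu : IsUnit (algebraMap (C ⊗[R] F) (B ⊗[R] F) z) :=
    IsLocalization.map_units (B ⊗[R] F) ⟨z, hz⟩
  rw [h, map_zero] at hu
  exact not_isUnit_zero hu

variable {R B F : Type u} [CommRing R] [IsDomain R] [CommRing B] [IsDomain B] [Algebra R B] [Field F] [Algebra R F]

/-- If `B ⊗_R F` is a domain then it is a field, provided every non zero element of `B` becomes a unit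
after inverting non zero elements of `R`, and `F` is algebraic over `R`. -/
theorem isField_tensor (hinv : ∀ b : B, b ≠ 0 → ∃ r : R, r ≠ 0 ∧ b ∣ algebraMap R B r)
    (hF : Function.Injective (algebraMap R F)) [Algebra.IsAlgebraic R F] [IsDomain (B ⊗[R] F)] :
    IsField (B ⊗[R] F) := by
  let j : B →+* B ⊗[R] F := Algebra.TensorProduct.includeLeftRingHom
  let i : F →+* B ⊗[R] F := (Algebra.TensorProduct.includeRight : F →ₐ[R] B ⊗[R] F).toRingHom
  have hunit : ∀ b : B, b ≠ 0 → IsUnit (j b) := by
    intro b hb
    obtain ⟨r, hr, c, hc⟩ := hinv b hb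
    refine isUnit_of_mul_isUnit_left (y := j c) ?_
    rw [← map_mul, ← hc, show j (algebraMap R B r) = i (algebraMap R F r) from
      (Algebra.TensorProduct.tmul_one_eq_one_tmul r)]
    exact (isUnit_iff_ne_zero.2 ((map_ne_zero_iff _ hF).2 hr)).map i
  let φ : FractionRing B →+* B ⊗[R] F :=
    IsLocalization.lift (M := nonZeroDivisors B) fun y => hunit y (nonZeroDivisors.coe_ne_zero y)
  letI : Algebra (FractionRing B) (B ⊗[R] F) := φ.toAlgebra
  haveI : Algebra.IsIntegral (FractionRing B) (B ⊗[R] F) := by
    refine ⟨fun z => ?_⟩
    induction z using TensorProduct.induction_on with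
    | zero => exact isIntegral_zero
    | add x y hx hy => exact hx.add hy
    | tmul b x =>
      have hb : IsIntegral (FractionRing B) (j b) := by
        have e : algebraMap (FractionRing B) (B ⊗[R] F) (algebraMap B (FractionRing B) b) = j b :=
          IsLocalization.lift_eq _ b
        rw [← e]
        exact isIntegral_algebraMap
      have hx : IsIntegral (FractionRing B) (i x) := by
        obtain ⟨p, hp0, hp⟩ := Algebra.IsAlgebraic.isAlgebraic (R := R) x
        refine IsAlgebraic.isIntegral ⟨p.map ((algebraMap B (FractionRing B)).comp (algebraMap R B)), ?_, ?_⟩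
        · intro h
          apply hp0
          have hinj : Function.Injective ((algebraMap B (FractionRing B)).comp (algebraMap R B)) := by
            refine (injective_iff_map_eq_zero _).2 fun r hr => ?_
            have h1 : algebraMap R B r = 0 := (IsFractionRing.to_map_eq_zero_iff).1 hr
            have h2 : i (algebraMap R F r) = 0 := by
              rw [show i (algebraMap R F r) = j (algebraMap R B r) from (Algebra.TensorProduct.tmul_one_eq_one_tmul r).symm,
                h1, map_zero]
            exact hF (((map_eq_zero i).1 h2).trans (map_zero _).symm)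
          exact (Polynomial.map_eq_zero_iff hinj).1 h
        · rw [Polynomial.aeval_def, Polynomial.eval₂_map]
          have e : (algebraMap (FractionRing B) (B ⊗[R] F)).comp ((algebraMap B (FractionRing B)).comp (algebraMap R B)) =
              i.comp (algebraMap R F) := RingHom.ext fun r => by
            show φ (algebraMap B (FractionRing B) (algebraMap R B r)) = _
            rw [IsLocalization.lift_eq]
            exact Algebra.TensorProduct.tmul_one_eq_one_tmul r
          rw [e, ← Polynomial.hom_eval₂, show Polynomial.eval₂ (algebraMap R F) x p = 0 from hp, map_zero]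
      rw [show b ⊗ₜ[R] x = j b * i x from by simp [i, j]]
      exact hb.mul hx
  exact isField_of_isIntegral_of_isField' (Field.toIsField (FractionRing B))

end Groth.Agent.StalkFieldLib
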