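import Groth.Agent.S2393
import Groth.Agent.S2431
import Groth.Agent.CubeLib.ConnConst
import Groth.Agent.SmoothWeil.Dom
import Groth.Agent.StalkFieldLib.Alg
import Mathlib.AlgebraicGeometry.AlgClosed.Basic

/-! Proper flat schemes over a local ring with connected reduced special fibre. -/

set_option autoImplicit false
set_option backward.isDefEq.respectTransparency false
set_option linter.style.haveILetI false

universe u

open CategoryTheory CategoryTheory.Limits AlgebraicGeometry TensorProduct IsLocalRing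

noncomputable section

namespace Groth.Agent.StalkFieldLib

variable {R : Type u} [CommRing R] [IsLocalRing R] [IsNoetherianRing R] [IsAlgClosed (ResidueField R)]
  {X : Scheme.{u}} (f : X ⟶ Spec (CommRingCat.of R)) [IsProper f] [Flat f]

omit [IsNoetherianRing R] [Flat f] in
theorem bijective_fibre (Xs : Scheme.{u}) (gs : Xs ⟶ X) (fs : Xs ⟶ Spec (CommRingCat.of (ResidueField R)))
    (hs : IsPullback gs fs f (Spec.map (CommRingCat.ofHom (residue R)))) [ConnectedSpace Xs] [IsReduced Xs]
    (y : ↥(Spec (CommRingCat.of R))) (hy : y = closedPoint R) :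
    Function.Bijective (algebraMap ((Spec (CommRingCat.of R)).residueField y) Γ(f.fiber y, ⊤)) := by
  let S := Spec (CommRingCat.of R)
  let r : Spec (CommRingCat.of (ResidueField R)) ⟶ S := Spec.map (CommRingCat.ofHom (residue R))
  obtain ⟨α, hα⟩ : ∃ α : S.residueField y ⟶ CommRingCat.of (ResidueField R),
      Spec.map α ≫ S.fromSpecResidueField y = r := by
    have h := (Scheme.SpecToEquivOfField (ResidueField R) S).symm_apply_apply r
    obtain ⟨⟨x, α⟩, he⟩ : ∃ p, Scheme.SpecToEquivOfField (ResidueField R) S r = p := ⟨_, rfl⟩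
    rw [he] at h
    have hx : x = y := by
      have h1 : r (closedPoint (ResidueField R)) = x := by
        rw [← h]
        exact (Scheme.Hom.comp_apply _ _ _).trans (Scheme.fromSpecResidueField_apply _ _)
      rw [← h1, hy]
      exact IsLocalRing.comap_closedPoint (residue R)
    subst hx
    exact ⟨α, h⟩
  haveI : IsIso α := by
    obtain ⟨β, hβ⟩ := Spec.map_surjective (S.fromSpecResidueField y)
    have e : β ≫ α = CommRingCat.ofHom (residue R) := Spec.map_injective (by rw [Spec.map_comp, hβ, hα])
    refine (ConcreteCategory.isIso_iff_bijective α).2 ⟨α.hom.injective, fun z => ?_⟩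
    obtain ⟨a, rfl⟩ := residue_surjective z
    exact ⟨β a, congr($e a)⟩
  have sq : IsPullback gs (fs ≫ Spec.map α) f (S.fromSpecResidueField y) := by
    have h2 : IsPullback r (Spec.map α) (𝟙 S) (S.fromSpecResidueField y) :=
      IsPullback.of_vert_isIso ⟨by rw [Category.comp_id, hα]⟩
    have h3 := hs.paste_vert h2
    rw [Category.comp_id f] at h3
    exact h3
  let e := sq.isoPullback
  haveI : ConnectedSpace ↥(f.fiber y) := e.hom.homeomorph.surjective.connectedSpace e.hom.continuous
  haveI : IsReduced (f.fiber y) := isReduced_of_isOpenImmersion e.inv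
  haveI : IsAlgClosed (S.residueField y) :=
    IsAlgClosed.of_ringEquiv (ResidueField R) _ (asIso α).commRingCatIsoToRingEquiv.symm
  haveI : IsAlgClosed (ResidueField ((Spec (CommRingCat.of R)).presheaf.stalk y)) := ‹IsAlgClosed (S.residueField y)›
  let p := f.fiberToSpecResidueField y
  haveI : IsProper p := MorphismProperty.pullback_snd f (S.fromSpecResidueField y) inferInstance
  haveI : JacobsonSpace ↥(f.fiber y) := LocallyOfFiniteType.jacobsonSpace p
  obtain ⟨z, -, hz⟩ := nonempty_inter_closedPoints (Set.univ_nonempty (α := ↥(f.fiber y))) isClosed_univ.isLocallyClosed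
  have hK := CubeLib.isConst_of_connected p (pointOfClosedPoint p z hz) (pointOfClosedPoint_comp p z hz)
  haveI : Nonempty (⊤ : (f.fiber y).Opens).toScheme := ⟨⟨z, trivial⟩⟩
  haveI : Nontrivial Γ(f.fiber y, ⊤) := Scheme.component_nontrivial _ _
  refine ⟨(algebraMap (S.residueField y) Γ(f.fiber y, ⊤)).injective, fun w => ?_⟩
  obtain ⟨a, ha⟩ := hK w
  refine ⟨a, ?_⟩
  rw [← ha, BCLib.secHom_eq_appLE]
  exact (congrArg (fun φ : _ ⟶ Γ(f.fiber y, ⊤) => φ.hom ((Scheme.ΓSpecIso (S.residueField y)).inv.hom a))
    (Scheme.Hom.appLE_eq_app (f := p) (U := ⊤))).symm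

theorem geometricallyConnected (Xs : Scheme.{u}) (gs : Xs ⟶ X) (fs : Xs ⟶ Spec (CommRingCat.of (ResidueField R)))
    (hs : IsPullback gs fs f (Spec.map (CommRingCat.ofHom (residue R)))) [ConnectedSpace Xs] [IsReduced Xs] :
    GeometricallyConnected f := by
  obtain ⟨U, hU, hiso⟩ := Groth.Agent.S2393.result f (closedPoint R) (bijective_fibre f Xs gs fs hs _ rfl)
  have htop : U = ⊤ := eq_top_iff.2 fun z _ => (IsLocalRing.specializes_closedPoint z).mem_open U.2 hU
  exact (Groth.Agent.S2431.result f fun V => hiso V (htop ▸ le_top)).2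

omit [IsLocalRing R] [IsNoetherianRing R] [IsAlgClosed (ResidueField R)] [IsProper f] [Flat f] in
/-- The stalk at any point tensored with an algebraically closed field over the generic point is a domain. -/
theorem isDomain_tensor_stalk [IsDomain R] {XK : Scheme.{u}} (gK : XK ⟶ X)
    (fK : XK ⟶ Spec (CommRingCat.of (FractionRing R)))
    (hK : IsPullback gK fK f (Spec.map (CommRingCat.ofHom (algebraMap R (FractionRing R)))))
    [Smooth fK] [GeometricallyConnected f] (x : X)
    (B : Type u) [CommRing B] [Algebra R B] (e : X.presheaf.stalk x ≅ CommRingCat.of B)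
    (he : e.hom.hom.comp ((X.presheaf.germ ⊤ x trivial).hom.comp (Coh.toGlobal f)) = algebraMap R B)
    (F : Type u) [Field F] [Algebra R F] [Algebra (FractionRing R) F] [IsScalarTower R (FractionRing R) F]
    [Nontrivial (B ⊗[R] F)] : IsDomain (B ⊗[R] F) := by
  let jF := Spec.map (CommRingCat.ofHom (algebraMap R F))
  let σ := Spec.map (CommRingCat.ofHom (algebraMap (FractionRing R) F))
  have hσ : σ ≫ Spec.map (CommRingCat.ofHom (algebraMap R (FractionRing R))) = jF := by
    rw [← Spec.map_comp, ← CommRingCat.ofHom_comp, ← IsScalarTower.algebraMap_eq]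
  let k₁ := hK.lift (pullback.fst f jF) (pullback.snd f jF ≫ σ) (by rw [Category.assoc, hσ, pullback.condition])
  have sq : IsPullback k₁ (pullback.snd f jF) fK σ := by
    refine IsPullback.of_right ?_ (hK.lift_snd _ _ _) hK
    rw [hK.lift_fst, hσ]
    exact IsPullback.of_hasPullback f jF
  haveI : Smooth (pullback.snd f jF) := MorphismProperty.of_isPullback sq inferInstance
  haveI : ConnectedSpace ↥(pullback f jF) :=
    GeometricallyConnected.geometrically_connectedSpace (f := f) _ _ _ (.of_hasPullback f jF)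
  haveI : IsIntegral (pullback f jF) := SmoothWeil.isIntegral_of_smooth_connected (pullback.snd f jF)
  obtain ⟨U, hU, hxU, -⟩ := exists_isAffineOpen_mem_and_subset (x := x) (U := (⊤ : X.Opens)) trivial
  let ψ : Γ(X, U) →+* B := e.hom.hom.comp (X.presheaf.germ U x hxU).hom
  letI : Algebra R Γ(X, U) := ((X.presheaf.map (homOfLE (le_top : U ≤ ⊤)).op).hom.comp (Coh.toGlobal f)).toAlgebra
  letI : Algebra Γ(X, U) B := ψ.toAlgebra
  haveI : IsScalarTower R Γ(X, U) B := .of_algebraMap_eq fun a => by
    show algebraMap R B a = e.hom.hom ((X.presheaf.germ U x hxU).hom ((X.presheaf.map _).hom (Coh.toGlobal f a)))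
    rw [← he, TopCat.Presheaf.germ_res_apply X.presheaf]
    rfl
  haveI : IsLocalization (hU.primeIdealOf ⟨x, hxU⟩).asIdeal.primeCompl B := by
    letI := TopCat.Presheaf.algebra_section_stalk X.presheaf ⟨x, hxU⟩
    haveI := hU.isLocalization_stalk ⟨x, hxU⟩
    exact IsLocalization.isLocalization_of_algEquiv _
      (AlgEquiv.ofRingEquiv (f := e.commRingCatIsoToRingEquiv) (fun _ => rfl) : X.presheaf.stalk x ≃ₐ[Γ(X, U)] B)
  haveI : Nontrivial (Γ(X, U) ⊗[R] F) :=
    (Algebra.TensorProduct.map (IsScalarTower.toAlgHom R Γ(X, U) B) (AlgHom.id R F)).toRingHom.domain_nontrivial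
  haveI : IsDomain (Γ(X, U) ⊗[R] F) := by
    have hf : hU.fromSpec ≫ f = Spec.map (CommRingCat.ofHom (algebraMap R Γ(X, U))) := by
      have h1 := Scheme.toSpecΓ_naturality f
      rw [← cancel_mono (Spec (CommRingCat.of R)).toSpecΓ, Category.assoc, h1, ← Category.assoc, hU.fromSpec_toSpecΓ,
        ← SpecMap_ΓSpecIso_hom, ← Spec.map_comp, ← Spec.map_comp]
      congr 1
      ext a
      show (X.presheaf.map _).hom (f.appTop a) = _
      simp [RingHom.algebraMap_toAlgebra, Coh.toGlobal]
    let q : Spec (CommRingCat.of (Γ(X, U) ⊗[R] F)) ⟶ pullback f jF :=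
      (pullbackSpecIso R Γ(X, U) F).inv ≫ (pullback.congrHom hf rfl).inv ≫
        (pullbackRightPullbackFstIso f jF hU.fromSpec).inv ≫ pullback.snd hU.fromSpec (pullback.fst f jF)
    haveI : Nonempty ↥(Spec (CommRingCat.of (Γ(X, U) ⊗[R] F))) := inferInstanceAs (Nonempty (PrimeSpectrum _))
    haveI : IsIntegral (Spec (CommRingCat.of (Γ(X, U) ⊗[R] F))) := isIntegral_of_isOpenImmersion q
    exact (affine_isIntegral_iff _).1 this
  exact isDomain_tensor_of_isLocalization (C := Γ(X, U)) (hU.primeIdealOf ⟨x, hxU⟩).asIdeal.primeCompl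

end Groth.Agent.StalkFieldLib
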